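import Mathlib.GroupTheory.GroupAction.MultipleTransitivity
import Mathlib.GroupTheory.GroupAction.Quotient
import Mathlib.GroupTheory.Index
import Mathlib.GroupTheory.PGroup
import Mathlib.Data.Set.Card

/-!
# Abelian normal subgroups of point stabilisers that are not semiregular: trivial intersections and lines
(owner: helper27)

An elementary route to O'Nan's theorem: two conjugates of the subgroup meet trivially, and the fixed point sets
of the two point stabilisers inside the subgroups are the lines of a linear space.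
-/

set_option autoImplicit false

namespace CfsgLib.ONanAbelian

open MulAction

/-- A family of elementary abelian `p`-subgroups, one for each point, normal in the point stabilisers, moving every
other point, with non-trivial two point stabilisers. -/
structure Setup (G X : Type*) [Group G] [MulAction G X] (p : ℕ) where
  A : X → Subgroup G
  conj_mem : ∀ (g : G) (x : X) (a : G), a ∈ A x → g * a * g⁻¹ ∈ A (g • x)
  fixes : ∀ (x : X) (a : G), a ∈ A x → a • x = x
  comm : ∀ x, ∀ a ∈ A x, ∀ b ∈ A x, a * b = b * a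
  pow_p : ∀ x, ∀ a ∈ A x, a ^ p = 1
  moves : ∀ x y, y ≠ x → ∃ a ∈ A x, a • y ≠ y
  nonsemireg : ∀ x y, y ≠ x → ∃ a ∈ A x, a ≠ 1 ∧ a • y = y
  twoTrans : ∀ a b c d : X, a ≠ b → c ≠ d → ∃ g : G, g • a = c ∧ g • b = d

namespace Setup

variable {G X : Type*} [Group G] [MulAction G X] {p : ℕ} (S : Setup G X p)

/-- The elements of `A x` fixing `y`. -/
def St (x y : X) : Subgroup G := S.A x ⊓ stabilizer G y

theorem mem_St {x y : X} {a : G} : a ∈ S.St x y ↔ a ∈ S.A x ∧ a • y = y := Iff.rfl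

theorem mem_conj (g : G) {x : X} {a : G} : g * a * g⁻¹ ∈ S.A (g • x) ↔ a ∈ S.A x := by
  refine ⟨fun h => ?_, S.conj_mem g x a⟩
  have := S.conj_mem g⁻¹ (g • x) _ h
  rwa [inv_smul_smul, inv_inv, show g⁻¹ * (g * a * g⁻¹) * g = a by group] at this

theorem conj_mem_of_fix {g : G} {x : X} (hg : g • x = x) {a : G} (ha : a ∈ S.A x) : g * a * g⁻¹ ∈ S.A x := by
  simpa [hg] using S.conj_mem g x a ha

theorem A_map (g : G) (x : X) : (S.A x).map (MulAut.conj g).toMonoidHom = S.A (g • x) := by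
  ext b
  constructor
  · rintro ⟨a, ha, rfl⟩
    exact S.conj_mem g x a ha
  · intro hb
    refine ⟨g⁻¹ * b * g, (S.mem_conj g).1 ?_, by simp [MulAut.conj_apply]; group⟩
    rwa [show g * (g⁻¹ * b * g) * g⁻¹ = b by group]

theorem St_map (g : G) (x y : X) : (S.St x y).map (MulAut.conj g).toMonoidHom = S.St (g • x) (g • y) := by
  ext b
  constructor
  · rintro ⟨a, ⟨ha, hay⟩, rfl⟩
    refine ⟨S.conj_mem g x a ha, ?_⟩
    show (g * a * g⁻¹) • g • y = g • y
    rw [mul_smul, mul_smul, inv_smul_smul, (hay : a • y = y)]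
  · rintro ⟨hb, hby⟩
    refine ⟨g⁻¹ * b * g, ⟨(S.mem_conj g).1 ?_, ?_⟩, by simp [MulAut.conj_apply]; group⟩
    · rwa [show g * (g⁻¹ * b * g) * g⁻¹ = b by group]
    · show (g⁻¹ * b * g) • y = y
      rw [mul_smul, mul_smul, (hby : b • g • y = g • y), inv_smul_smul]

include S in
theorem transitive (x y : X) (hex : ∃ z : X, z ≠ x) : ∃ g : G, g • x = y := by
  obtain ⟨z, hz⟩ := hex
  by_cases h : y = x
  · exact ⟨1, by simp [h]⟩
  · obtain ⟨g, hg, -⟩ := S.twoTrans x y y x (Ne.symm h) h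
    exact ⟨g, hg⟩

theorem card_St {x y x' y' : X} (h : x ≠ y) (h' : x' ≠ y') : Nat.card (S.St x y) = Nat.card (S.St x' y') := by
  obtain ⟨g, rfl, rfl⟩ := S.twoTrans x y x' y' h h'
  rw [← S.St_map g x y]
  exact Nat.card_congr ((S.St x y).equivMapOfInjective _ (MulAut.conj g).injective).toEquiv

theorem card_A {x x' y : X} (h : x ≠ y) (h' : x' ≠ y) : Nat.card (S.A x) = Nat.card (S.A x') := by
  by_cases hxx : x = x'
  · rw [hxx]
  · obtain ⟨g, hg, -⟩ := S.twoTrans x y x' y h h'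
    rw [← hg, ← S.A_map g x]
    exact Nat.card_congr ((S.A x).equivMapOfInjective _ (MulAut.conj g).injective).toEquiv

theorem St_ne_bot {x y : X} (h : x ≠ y) : S.St x y ≠ ⊥ := by
  obtain ⟨a, ha, ha1, hay⟩ := S.nonsemireg x y h.symm
  exact fun e => ha1 (Subgroup.mem_bot.1 (e ▸ (⟨ha, hay⟩ : a ∈ S.St x y)))

/-! ### Trivial intersections -/

section TI

variable [Finite G] [FaithfulSMul G X]

theorem inf_map (g : G) (x y : X) :
    (S.A x ⊓ S.A y).map (MulAut.conj g).toMonoidHom = S.A (g • x) ⊓ S.A (g • y) := by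
  rw [Subgroup.map_inf _ _ _ (MulAut.conj g).injective, S.A_map, S.A_map]

theorem inf_eq_of_le {x y z u : X} (hxy : x ≠ y) (hzu : z ≠ u) (hz : S.A x ⊓ S.A y ≤ S.A z)
    (hu : S.A x ⊓ S.A y ≤ S.A u) : S.A x ⊓ S.A y = S.A z ⊓ S.A u := by
  refine SetLike.coe_injective (Set.eq_of_subset_of_ncard_le (le_inf hz hu) ?_ (Set.toFinite _))
  obtain ⟨g, rfl, rfl⟩ := S.twoTrans x y z u hxy hzu
  rw [← S.inf_map g x y]
  refine le_of_eq ?_
  rw [← Nat.card_coe_set_eq, ← Nat.card_coe_set_eq]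
  exact (Nat.card_congr ((S.A x ⊓ S.A y).equivMapOfInjective _ (MulAut.conj g).injective).toEquiv).symm

theorem inf_eq_bot {x y : X} (hxy : x ≠ y) : S.A x ⊓ S.A y = ⊥ := by
  rw [Subgroup.eq_bot_iff_forall]
  intro d hd
  by_contra hd1
  set D : X → X → Subgroup G := fun x y => S.A x ⊓ S.A y with hD
  have hdfix : ∀ q, (∀ z, z ≠ q → D x y ≤ S.A z) → False := by
    intro q hq
    apply hd1
    refine eq_of_smul_eq_smul (α := X) fun z => ?_
    rw [one_smul]
    by_cases hz : z = q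
    · subst hz
      by_contra hne
      have h1 : d • (d • z) = d • z := S.fixes _ d (hq _ hne hd)
      exact hne (smul_left_cancel d h1)
    · exact S.fixes z d (hq z hz hd)
  have htriv : ∀ {u v : X}, u ≠ v → D x y ≤ S.A u → D x y ≤ S.A v → D x y = D u v :=
    fun huv => S.inf_eq_of_le hxy huv
  have hblock : ∀ {u v z w : X}, u ≠ v → z ≠ w → D u v ≤ S.A z → D u v ≤ S.A w → D u v = D z w :=
    fun h1 h2 => S.inf_eq_of_le h1 h2
  have hinv : ∀ {u v : X} {g : G}, u ≠ v → g ∈ S.A u → ∀ z, D u v ≤ S.A z → D u v ≤ S.A (g • z) := by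
    intro u v g _ hg z hz e he
    have hc := S.comm u g hg e he.1
    have := S.conj_mem g z e (hz he)
    rwa [hc, mul_inv_cancel_right] at this
  have hthird : ∀ {u v : X}, u ≠ v → ∃ t, t ≠ u ∧ t ≠ v ∧ D u v ≤ S.A t := by
    intro u v huv
    obtain ⟨a, ha, hav⟩ := S.moves u v huv.symm
    refine ⟨a • v, fun e => huv.symm ?_, hav, hinv huv ha v inf_le_right⟩
    exact smul_left_cancel a (e.trans (S.fixes u a ha).symm)
  -- `d` fixes every point outside the block of `x` and `y`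
  have hout : ∀ z, ¬ D x y ≤ S.A z → d • z = z := by
    intro z hz
    have hzx : z ≠ x := fun e => hz (e ▸ inf_le_left)
    have hzy : z ≠ y := fun e => hz (e ▸ inf_le_right)
    have h1 : D x z ≤ S.A (d • z) := hinv hzx.symm hd.1 z inf_le_right
    have h2 : D y z ≤ S.A (d • z) := hinv hzy.symm hd.2 z inf_le_right
    by_contra hne
    have e1 := hblock (Ne.symm hzx) (Ne.symm hne) inf_le_right h1
    have e2 := hblock (Ne.symm hzy) (Ne.symm hne) inf_le_right h2
    have e3 : D x z ≤ S.A y := by rw [e1, ← e2]; exact inf_le_left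
    have e4 := hblock (Ne.symm hzx) hxy inf_le_left e3
    exact hz (e4 ▸ inf_le_right)
  obtain ⟨o, ho⟩ : ∃ o, ¬ D x y ≤ S.A o := by
    by_contra h
    simp only [not_exists, not_not] at h
    exact hdfix x fun z _ => h z
  apply hd1
  refine eq_of_smul_eq_smul (α := X) fun z => ?_
  rw [one_smul]
  by_cases hz : D x y ≤ S.A z
  swap
  · exact hout z hz
  have hoz : o ≠ z := fun e => ho (e ▸ hz)
  obtain ⟨v, hvo, hvz, hv⟩ := hthird hoz
  have hzv : D o z = D o v := hblock hoz (Ne.symm hvo) inf_le_left hv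
  have hvout : ¬ D x y ≤ S.A v := by
    intro hvin
    have e1 : D x y = D z v := htriv (Ne.symm hvz) hz hvin
    have e2 : D o z = D z v := hblock hoz (Ne.symm hvz) inf_le_right hv
    exact ho (e1 ▸ e2 ▸ inf_le_left)
  have hdz : D o z ≤ S.A (d • z) := by
    intro e he
    have hzv' : D o v ≤ S.A z := hzv ▸ inf_le_right
    have h3 : d⁻¹ * e * d ∈ D o v := by
      rw [hzv] at he
      have hdi : ∀ q : X, d • q = q → d⁻¹ • q = q := fun q hq => inv_smul_eq_iff.2 hq.symm
      constructor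
      · simpa [hdi o (hout o ho)] using S.conj_mem d⁻¹ o e he.1
      · simpa [hdi v (hout v hvout)] using S.conj_mem d⁻¹ v e he.2
    have h4 := S.conj_mem d z _ (hzv' h3)
    rwa [show d * (d⁻¹ * e * d) * d⁻¹ = e by group] at h4
  by_contra hne
  have h5 : D x y ≤ S.A (d • z) := by
    intro e he
    exact hinv hxy hd.1 z hz he
  have e1 : D x y = D z (d • z) := htriv (Ne.symm hne) hz h5
  have e2 : D o z = D z (d • z) := hblock hoz (Ne.symm hne) inf_le_right hdz
  exact ho (e1 ▸ e2 ▸ inf_le_left)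

theorem eq_one_of_mem {x y : X} (hxy : x ≠ y) {a : G} (hx : a ∈ S.A x) (hy : a ∈ S.A y) : a = 1 :=
  (Subgroup.eq_bot_iff_forall _).1 (S.inf_eq_bot hxy) a ⟨hx, hy⟩

/-- The centraliser of a non-trivial element of `A x` fixes `x`. -/
theorem fix_of_commute {x : X} {a g : G} (ha : a ∈ S.A x) (ha1 : a ≠ 1) (hc : g * a = a * g) : g • x = x := by
  by_contra h
  have := S.conj_mem g x a ha
  rw [hc, mul_inv_cancel_right] at this
  exact ha1 (S.eq_one_of_mem (Ne.symm h) ha this)

/-- Elements of two of the subgroups fixing each other's point commute. -/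
theorem commute_of_fix {x z : X} (hxz : x ≠ z) {a b : G} (ha : a ∈ S.A x) (haz : a • z = z) (hb : b ∈ S.A z)
    (hbx : b • x = x) : a * b = b * a := by
  have h1 : a * b * a⁻¹ * b⁻¹ ∈ S.A x := by
    rw [show a * b * a⁻¹ * b⁻¹ = a * (b * a⁻¹ * b⁻¹) by group]
    exact mul_mem ha (S.conj_mem_of_fix hbx (inv_mem ha))
  have h2 : a * b * a⁻¹ * b⁻¹ ∈ S.A z := mul_mem (S.conj_mem_of_fix haz hb) (inv_mem hb)
  have h3 := S.eq_one_of_mem hxz h1 h2
  calc a * b = (a * b * a⁻¹ * b⁻¹) * (b * a) := by group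
    _ = b * a := by rw [h3, one_mul]

variable [Fact p.Prime]

theorem isPGroup_A (x : X) : IsPGroup p (S.A x) := fun a => ⟨1, by
  rw [pow_one]; exact Subtype.ext (S.pow_p x a a.2)⟩

/-- The key step: if the stabiliser of `y` in `A x` fixes `z` then `A z` has the same elements fixing `x` and `y`. -/
theorem St_eq {x y z : X} (hxy : x ≠ y) (hxz : x ≠ z) (hyz : y ≠ z) (hle : S.St x y ≤ S.St x z) :
    S.St z x = S.St z y := by
  classical
  set W := S.St x y with hW
  set T := S.St z y with hT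
  set I := T ⊓ S.St z x with hI
  by_contra hne
  have hcard : Nat.card W = Nat.card T := S.card_St hxy hyz.symm
  have hTC : ¬ T ≤ S.St z x := by
    intro h
    refine hne (SetLike.coe_injective (Set.eq_of_subset_of_ncard_le h ?_ (Set.toFinite _))).symm
    rw [← Nat.card_coe_set_eq, ← Nat.card_coe_set_eq]
    exact (S.card_St hxz.symm hyz.symm).le
  have hIT : Nat.card I < Nat.card T := by
    refine lt_of_le_of_ne (Subgroup.card_le_of_le inf_le_left) fun h => hTC ?_
    have : I = T := SetLike.coe_injective (Set.eq_of_subset_of_ncard_le inf_le_left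
      (by rw [← Nat.card_coe_set_eq, ← Nat.card_coe_set_eq]; exact h.ge) (Set.toFinite _))
    exact this ▸ inf_le_right
  have hWy : ∀ w ∈ W, w • y = y := fun w hw => hw.2
  have hWz : ∀ w ∈ W, w • z = z := fun w hw => (hle hw).2
  have hnorm : ∀ w ∈ W, ∀ t ∈ T, w * t * w⁻¹ ∈ T := fun w hw t ht =>
    ⟨S.conj_mem_of_fix (hWz w hw) ht.1, show (w * t * w⁻¹) • y = y by
      rw [mul_smul, mul_smul, inv_smul_eq_iff.2 (hWy w hw).symm, (ht.2 : t • y = y), hWy w hw]⟩
  let O : SubMulAction W X :=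
    { carrier := MulAction.orbit T x
      smul_mem' := by
        rintro ⟨w, hw⟩ q ⟨⟨t, ht⟩, rfl⟩
        refine ⟨⟨w * t * w⁻¹, hnorm w hw t ht⟩, ?_⟩
        show (w * t * w⁻¹) • x = w • (t • x)
        rw [mul_smul, mul_smul, inv_smul_eq_iff.2 (S.fixes x w hw.1).symm] }
  haveI : Finite O := Finite.Set.finite_range _
  have hWp : IsPGroup p W := (S.isPGroup_A x).to_le inf_le_left
  have hTp : IsPGroup p T := (S.isPGroup_A z).to_le inf_le_left
  obtain ⟨k, hk⟩ := hTp.card_orbit x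
  have hkpos : 0 < k := by
    rcases Nat.eq_zero_or_pos k with rfl | h
    · exfalso
      rw [pow_zero, Nat.card_eq_one_iff_unique] at hk
      refine hTC fun t ht => ⟨ht.1, ?_⟩
      exact congrArg Subtype.val (hk.1.elim (⟨t • x, ⟨⟨t, ht⟩, rfl⟩⟩ : MulAction.orbit T x)
        ⟨x, MulAction.mem_orbit_self x⟩)
    · exact h
  have hdvd : p ∣ Nat.card O := by
    show p ∣ Nat.card (MulAction.orbit T x)
    rw [hk]; exact dvd_pow_self p hkpos.ne'
  have hx0 : (⟨x, MulAction.mem_orbit_self x⟩ : O) ∈ MulAction.fixedPoints W O := fun w =>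
    Subtype.ext (S.fixes x w w.2.1)
  obtain ⟨⟨b, hb⟩, hbfix, hbne⟩ := hWp.exists_fixed_point_of_prime_dvd_card_of_fixed_point O hdvd hx0
  obtain ⟨⟨t, ht⟩, rfl⟩ := hb
  have hbfix' : ∀ w ∈ W, w • t • x = t • x := fun w hw => congrArg Subtype.val (hbfix ⟨w, hw⟩)
  have htx : t • x ≠ x := fun e => hbne (Subtype.ext e.symm)
  have hmem : ∀ w : W, t⁻¹ * ((w : G) * t * (w : G)⁻¹) ∈ I := by
    rintro ⟨w, hw⟩
    have h1 : t⁻¹ * (w * t * w⁻¹) ∈ T := mul_mem (inv_mem ht) (hnorm w hw t ht)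
    refine ⟨h1, h1.1, ?_⟩
    show (t⁻¹ * (w * t * w⁻¹)) • x = x
    rw [mul_smul, mul_smul, mul_smul, inv_smul_eq_iff.2 (S.fixes x w hw.1).symm, hbfix' w hw, inv_smul_smul]
  have hinj : Function.Injective fun w : W => (⟨_, hmem w⟩ : I) := by
    rintro ⟨w, hw⟩ ⟨w', hw'⟩ he
    have he' : w * t * w⁻¹ = w' * t * w'⁻¹ := mul_left_cancel (congrArg Subtype.val he)
    by_contra hww
    have hc : t * (w'⁻¹ * w) = (w'⁻¹ * w) * t := by
      calc t * (w'⁻¹ * w) = w'⁻¹ * (w' * t * w'⁻¹) * w := by group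
        _ = w'⁻¹ * (w * t * w⁻¹) * w := by rw [he']
        _ = (w'⁻¹ * w) * t := by group
    exact htx (S.fix_of_commute (mul_mem (inv_mem hw'.1) hw.1)
      (fun e => hww (Subtype.ext (eq_of_inv_mul_eq_one e).symm)) hc)
  have := Nat.card_le_card_of_injective _ hinj
  omega

/-! ### Lines -/

/-- The line through two points. -/
def L (x y : X) : Set X := {z | ∀ a ∈ S.St x y, a • z = z}

theorem left_mem_L (x y : X) : x ∈ S.L x y := fun a ha => S.fixes x a ha.1

theorem right_mem_L (x y : X) : y ∈ S.L x y := fun _ ha => ha.2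

theorem St_eq_of_mem {x y z : X} (hxy : x ≠ y) (hz : z ∈ S.L x y) (hzx : z ≠ x) : S.St x z = S.St x y := by
  have hsub : (S.St x y : Set G) ⊆ (S.St x z : Set G) := fun a ha => ⟨ha.1, hz a ha⟩
  refine (SetLike.coe_injective (Set.eq_of_subset_of_ncard_le hsub ?_ (Set.toFinite _))).symm
  rw [← Nat.card_coe_set_eq, ← Nat.card_coe_set_eq]
  exact (S.card_St (Ne.symm hzx) hxy).le

theorem L_subset_symm {x y : X} (hxy : x ≠ y) : S.L x y ⊆ S.L y x := by
  intro z hz
  by_cases hzx : z = x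
  · exact hzx ▸ S.right_mem_L y x
  by_cases hzy : z = y
  · exact hzy ▸ S.left_mem_L y x
  have hle : S.St x y ≤ S.St x z := (S.St_eq_of_mem hxy hz hzx).ge
  have h1 := S.St_eq hxy (Ne.symm hzx) (Ne.symm hzy) hle
  have h2 := S.St_eq (x := z) (y := x) (z := y) hzx hzy hxy h1.le
  exact fun a ha => ((h2.symm ▸ ha : a ∈ S.St y z)).2

theorem L_comm {x y : X} (hxy : x ≠ y) : S.L x y = S.L y x :=
  (S.L_subset_symm hxy).antisymm (S.L_subset_symm hxy.symm)

theorem L_eq_of_mem_right {x y z : X} (hxy : x ≠ y) (hz : z ∈ S.L x y) (hzx : z ≠ x) : S.L x z = S.L x y := by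
  rw [L, L, S.St_eq_of_mem hxy hz hzx]

theorem L_eq {x y z u : X} (hxy : x ≠ y) (hz : z ∈ S.L x y) (hu : u ∈ S.L x y) (hzu : z ≠ u) :
    S.L z u = S.L x y := by
  by_cases hzx : z = x
  · subst hzx
    exact S.L_eq_of_mem_right hxy hu hzu.symm
  · have e : S.L z x = S.L x y := by rw [S.L_comm hzx, S.L_eq_of_mem_right hxy hz hzx]
    rw [← e]
    exact S.L_eq_of_mem_right hzx (e ▸ hu) hzu.symm

theorem mem_L_smul (g : G) {x y z : X} : g • z ∈ S.L (g • x) (g • y) ↔ z ∈ S.L x y := by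
  simp only [L, Set.mem_setOf_eq, ← S.St_map g x y, Subgroup.mem_map]
  constructor
  · intro h a ha
    have := h _ ⟨a, ha, rfl⟩
    simpa [MulAut.conj_apply, mul_smul] using this
  · rintro h _ ⟨a, ha, rfl⟩
    simp [MulAut.conj_apply, mul_smul, h a ha]

theorem L_image (g : G) (x y : X) : (fun z => g • z) '' S.L x y = S.L (g • x) (g • y) := by
  ext q
  constructor
  · rintro ⟨z, hz, rfl⟩
    exact (S.mem_L_smul g).2 hz
  · intro hq
    exact ⟨g⁻¹ • q, (S.mem_L_smul g).1 (by rwa [smul_inv_smul]), smul_inv_smul g q⟩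

/-- `A x` fixes every line through `x`. -/
theorem smul_mem_L {x y z : X} {a : G} (ha : a ∈ S.A x) (hz : z ∈ S.L x y) : a • z ∈ S.L x y := by
  intro w hw
  rw [← mul_smul, S.comm x w hw.1 a ha, mul_smul, hz w hw]

/-- An element of `A x` fixing two points fixes the line through them. -/
theorem fix_L {x y z : X} {a : G} (ha : a ∈ S.A x) (hyz : y ≠ z) (hy : a • y = y) (hz : a • z = z) :
    ∀ q ∈ S.L y z, a • q = q := by
  intro q hq
  by_cases hx : x ∈ S.L y z
  · by_cases hyx : y = x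
    · subst hyx
      exact hq a ⟨ha, hz⟩
    · rw [← S.L_eq hyz hx (S.left_mem_L y z) (Ne.symm hyx)] at hq
      exact hq a ⟨ha, hy⟩
  · by_contra hne
    have hqx : x ≠ q := fun e => hx (e ▸ hq)
    have h1 : a • q ∈ S.L y z := by
      have := (S.mem_L_smul a).2 hq
      rwa [hy, hz] at this
    have h2 : a • q ∈ S.L x q := S.smul_mem_L ha (S.right_mem_L x q)
    apply hx
    rw [← S.L_eq hyz hq h1 (Ne.symm hne), S.L_eq hqx (S.right_mem_L x q) h2 (Ne.symm hne)]
    exact S.left_mem_L x q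

theorem L_ne_univ {x y : X} (hxy : x ≠ y) : S.L x y ≠ Set.univ := by
  intro h
  obtain ⟨a, ha, ha1, hay⟩ := S.nonsemireg x y hxy.symm
  exact ha1 (eq_of_smul_eq_smul (α := X) fun z => by rw [one_smul]; exact (h ▸ Set.mem_univ z : z ∈ S.L x y) a ⟨ha, hay⟩)

end TI

end Setup

end CfsgLib.ONanAbelian
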