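import Mathlib.LinearAlgebra.Dimension.StrongRankCondition
import Mathlib.LinearAlgebra.Matrix.DotProduct
import Mathlib.Data.Fintype.BigOperators
import Mathlib.Algebra.Field.Rat
import Mathlib.LinearAlgebra.FiniteDimensional.Basic
import Mathlib.Tactic.Linarith
import Mathlib.Tactic.LinearCombination

/-!
# Fisher's inequality (owner: helper27)
-/

set_option autoImplicit false

namespace CfsgLib.ONanAbelian

/-- A family of subsets of constant size `r` meeting pairwise in fewer than `r` points, always in the same
number `l`, has at most as many members as there are points. -/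
theorem fisher {ι α : Type*} [Fintype ι] [Fintype α] [DecidableEq α] (inc : ι → Finset α) (r l : ℕ) (hlr : l < r)
    (hr : ∀ i, (inc i).card = r) (hl : ∀ i j, i ≠ j → (inc i ∩ inc j).card = l) :
    Fintype.card ι ≤ Fintype.card α := by
  classical
  let v : ι → (α → ℚ) := fun i a => if a ∈ inc i then 1 else 0
  have hdot : ∀ i j, ∑ a, v i a * v j a = ((inc i ∩ inc j).card : ℚ) := by
    intro i j
    simp [v, Finset.sum_ite_mem, Finset.inter_comm]
  have hli : LinearIndependent ℚ v := by
    rw [Fintype.linearIndependent_iff]
    intro c hc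
    have key : ∀ j, ((r : ℚ) - l) * c j + (l : ℚ) * ∑ i, c i = 0 := by
      intro j
      have h0 : ∑ a, (∑ i, c i • v i) a * v j a = 0 := by rw [hc]; simp
      have h1 : ∑ a, (∑ i, c i • v i) a * v j a = ∑ i, c i * ∑ a, v i a * v j a := by
        simp only [Finset.sum_apply, Pi.smul_apply, smul_eq_mul, Finset.sum_mul, Finset.mul_sum, mul_assoc]
        exact Finset.sum_comm
      rw [h1] at h0
      have h2 : ∀ i, c i * ∑ a, v i a * v j a = (l : ℚ) * c i + (if i = j then ((r : ℚ) - l) * c i else 0) := by
        intro i
        rw [hdot]
        split_ifs with h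
        · subst h
          rw [Finset.inter_self, hr]; ring
        · rw [hl i j h]; ring
      simp only [h2, Finset.sum_add_distrib, ← Finset.mul_sum, Finset.sum_ite_eq', Finset.mem_univ, if_true] at h0
      linarith
    have hpos : (0 : ℚ) < (r : ℚ) - l := by
      have : (l : ℚ) < r := by exact_mod_cast hlr
      linarith
    intro j
    have hsum : ∑ i, c i = 0 := by
      have h3 : ∑ j, (((r : ℚ) - l) * c j + (l : ℚ) * ∑ i, c i) = 0 := Finset.sum_eq_zero fun j _ => key j
      rw [Finset.sum_add_distrib, ← Finset.mul_sum, Finset.sum_const, nsmul_eq_mul] at h3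
      have h4 : (((r : ℚ) - l) + ((Finset.univ : Finset ι).card : ℚ) * l) * ∑ i, c i = 0 := by
        linear_combination h3
      have : (0 : ℚ) ≤ ((Finset.univ : Finset ι).card : ℚ) * l := by positivity
      exact (mul_eq_zero.1 h4).resolve_left (by linarith)
    have := key j
    rw [hsum, mul_zero, add_zero] at this
    exact (mul_eq_zero.1 this).resolve_left hpos.ne'
  simpa using hli.fintype_card_le_finrank

end CfsgLib.ONanAbelian
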