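import Cfsg.Agent.Lib.Perm.ONanAbelian.Meet
import Cfsg.Agent.Lib.Perm.ONanAbelian.Fisher
import Mathlib.Algebra.Pointwise.Stabilizer

/-!
# The hyperplanes (owner: helper27)

The fixed point sets of the non-trivial elements of the subgroups are hyperplanes; Fisher's inequality shows that an
orbit of hyperplanes has as many members as there are points, so a hyperplane stabiliser has index the degree.
-/

set_option autoImplicit false

open scoped Pointwise

namespace CfsgLib.ONanAbelian

open MulAction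

namespace Setup

variable {G X : Type*} [Group G] [MulAction G X] {p : ℕ} (S : Setup G X p) [Finite G] [FaithfulSMul G X]
  [Fact p.Prime]

/-- A proper subspace meeting every line. -/
structure IsHyp (T : Set X) : Prop where
  ne_univ : T ≠ Set.univ
  closed : ∀ y ∈ T, ∀ z ∈ T, y ≠ z → S.L y z ⊆ T
  meets : ∀ y z, y ≠ z → ∃ q ∈ S.L y z, q ∈ T

theorem fixedBy_isHyp [Finite X] {x : X} {a : G} (ha : a ∈ S.A x) (ha1 : a ≠ 1) : S.IsHyp (fixedBy X a) where
  ne_univ h := ha1 (eq_of_smul_eq_smul (α := X) fun q => by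
    rw [one_smul]; exact (h ▸ Set.mem_univ q : q ∈ fixedBy X a))
  closed _ hy _ hz hne := fun q hq => S.fix_L ha hne hy hz q hq
  meets y z hyz := by
    by_cases hx : x ∈ S.L y z
    · exact ⟨x, hx, S.fixes x a ha⟩
    · exact S.exists_fix_mem_line hyz hx ha

theorem isHyp_smul {T : Set X} (h : S.IsHyp T) (g : G) : S.IsHyp (g • T) where
  ne_univ e := h.ne_univ (by
    rw [Set.eq_univ_iff_forall] at e ⊢
    intro q
    exact Set.smul_mem_smul_set_iff.1 (e (g • q)))
  closed y hy z hz hne := by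
    intro q hq
    rw [Set.mem_smul_set_iff_inv_smul_mem] at hy hz ⊢
    exact h.closed _ hy _ hz (fun e => hne (smul_left_cancel g⁻¹ e)) ((S.mem_L_smul g⁻¹).2 hq)
  meets y z hyz := by
    obtain ⟨q, hq, hqT⟩ := h.meets (g⁻¹ • y) (g⁻¹ • z) (fun e => hyz (smul_left_cancel g⁻¹ e))
    refine ⟨g • q, ?_, Set.smul_mem_smul_set hqT⟩
    have := (S.mem_L_smul g).2 hq
    rwa [smul_inv_smul, smul_inv_smul] at this

theorem ncard_L {x y x' y' : X} (h : x ≠ y) (h' : x' ≠ y') : (S.L x y).ncard = (S.L x' y').ncard := by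
  obtain ⟨g, rfl, rfl⟩ := S.twoTrans x y x' y' h h'
  rw [← S.L_image, Set.ncard_image_of_injective _ (MulAction.injective g)]

/-- Lines through a point outside a hyperplane, inside a subspace. -/
theorem card_subspace [Finite X] {k : ℕ} (hk : ∀ u v : X, u ≠ v → (S.L u v).ncard = k) {T U : Set X}
    (hT : S.IsHyp T) (hU : ∀ y ∈ U, ∀ z ∈ U, y ≠ z → S.L y z ⊆ U) {q₀ : X} (hqU : q₀ ∈ U) (hqT : q₀ ∉ T) :
    U.ncard = (U ∩ T).ncard * (k - 1) + 1 := by
  classical
  haveI := Fintype.ofFinite X
  let F : X → Finset X := fun q => (S.L q₀ q).toFinset.erase q₀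
  have hne : ∀ q ∈ (U ∩ T).toFinset, q₀ ≠ q := fun q hq e => hqT (e ▸ (Set.mem_toFinset.1 hq).2)
  have hdisj : Set.PairwiseDisjoint ((U ∩ T).toFinset : Set X) F := by
    intro q hq q' hq' hqq
    rw [Function.onFun, Finset.disjoint_left]
    intro r hr hr'
    simp only [F, Finset.mem_erase, Set.mem_toFinset] at hr hr'
    have h1 := S.L_eq (hne q hq) (S.left_mem_L q₀ q) hr.2 hr.1.symm
    have h2 := S.L_eq (hne q' hq') (S.left_mem_L q₀ q') hr'.2 hr'.1.symm
    have h3 : q' ∈ S.L q₀ q := by rw [← h1, h2]; exact S.right_mem_L q₀ q'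
    rw [Set.coe_toFinset] at hq hq'
    have h4 := hT.closed q hq.2 q' hq'.2 hqq
    rw [S.L_eq (hne q (Set.mem_toFinset.2 hq)) (S.right_mem_L q₀ q) h3 hqq] at h4
    exact hqT (h4 (S.left_mem_L q₀ q))
  have heq : (U ∩ T).toFinset.biUnion F = U.toFinset.erase q₀ := by
    ext r
    simp only [F, Finset.mem_biUnion, Finset.mem_erase, Set.mem_toFinset]
    constructor
    · rintro ⟨q, hq, hr, hrL⟩
      exact ⟨hr, hU q₀ hqU q hq.1 (fun e => hqT (e ▸ hq.2)) hrL⟩
    · rintro ⟨hr, hrU⟩
      obtain ⟨q, hqL, hq⟩ := hT.meets q₀ r hr.symm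
      refine ⟨q, ⟨hU q₀ hqU r hrU hr.symm hqL, hq⟩, hr, ?_⟩
      rw [S.L_eq hr.symm (S.left_mem_L q₀ r) hqL (fun e => hqT (e ▸ hq))]
      exact S.right_mem_L q₀ r
  have hcard := Finset.card_biUnion hdisj
  rw [heq, Finset.card_erase_of_mem (Set.mem_toFinset.2 hqU)] at hcard
  have hF : ∀ q ∈ (U ∩ T).toFinset, (F q).card = k - 1 := fun q hq => by
    rw [Finset.card_erase_of_mem (Set.mem_toFinset.2 (S.left_mem_L q₀ q)), ← Set.ncard_eq_toFinset_card',
      hk _ _ (hne q hq)]
  rw [Finset.sum_congr rfl hF, Finset.sum_const, smul_eq_mul, ← Set.ncard_eq_toFinset_card',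
    ← Set.ncard_eq_toFinset_card'] at hcard
  have : 0 < U.ncard := Set.ncard_pos (Set.toFinite _) |>.2 ⟨q₀, hqU⟩
  omega

include S in
/-- A subgroup of index the degree, intransitive and without fixed point, acting unfaithfully on an orbit. -/
theorem exists_hyperplane_stabilizer [Finite X] (hX : ∃ x y : X, x ≠ y) :
    ∃ H : Subgroup G, H.index = Nat.card X ∧ ¬ MulAction.IsPretransitive H X ∧ (∀ q : X, ∃ h : H, h • q ≠ q) ∧
      ∃ q : X, ∃ h : H, h ≠ 1 ∧ ∀ b ∈ MulAction.orbit H q, h • b = b := by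
  classical
  obtain ⟨x, y, hxy⟩ := hX
  obtain ⟨a, ha, ha1, hay⟩ := S.nonsemireg x y hxy.symm
  set T₀ : Set X := fixedBy X a with hT₀
  have hx₀ : x ∈ T₀ := S.fixes x a ha
  have hy₀ : y ∈ T₀ := hay
  have hhyp := S.fixedBy_isHyp ha ha1
  set k := (S.L x y).ncard with hkdef
  have hk : ∀ u v : X, u ≠ v → (S.L u v).ncard = k := fun u v h => S.ncard_L h hxy
  have hk3 : 3 ≤ k := by
    have := S.two_le_orb hxy
    have := S.orb_add_one_le hxy
    omega
  set N := T₀.ncard with hN
  have hN2 : 2 ≤ N := (Set.ncard_pair hxy).symm.le.trans (Set.ncard_le_ncard (by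
    rintro q (rfl | rfl)
    · exact hx₀
    · exact hy₀) (Set.toFinite _))
  haveI := Fintype.ofFinite X
  haveI : Fintype (MulAction.orbit G T₀) := Fintype.ofFinite _
  have hB : ∀ T : MulAction.orbit G T₀, S.IsHyp (T : Set X) := by
    rintro ⟨_, g, rfl⟩
    exact S.isHyp_smul hhyp g
  have hsize : ∀ T : MulAction.orbit G T₀, (T : Set X).ncard = N := by
    rintro ⟨_, g, rfl⟩
    exact Set.ncard_smul_set g T₀
  have hinter : ∀ T T' : MulAction.orbit G T₀, T ≠ T' →
      ((T : Set X) ∩ (T' : Set X)).ncard * (k - 1) + 1 = N := by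
    intro T T' hne
    obtain ⟨q₀, hq, hq'⟩ : ∃ q, q ∈ (T : Set X) ∧ q ∉ (T' : Set X) := by
      by_contra h
      simp only [not_exists, not_and, not_not] at h
      exact hne (Subtype.ext (Set.eq_of_subset_of_ncard_le h (by rw [hsize, hsize]) (Set.toFinite _)))
    rw [← hsize T]
    exact (S.card_subspace hk (hB T') (hB T).closed hq hq').symm
  have hle1 : Fintype.card (MulAction.orbit G T₀) ≤ Fintype.card X := by
    refine fisher (fun T => (T : Set X).toFinset) N ((N - 1) / (k - 1)) ?_ (fun T => ?_) (fun T T' hne => ?_)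
    · exact lt_of_le_of_lt (Nat.div_le_self _ _) (by omega)
    · rw [← Set.ncard_eq_toFinset_card', hsize]
    · rw [← Set.toFinset_inter, ← Set.ncard_eq_toFinset_card']
      have := hinter T T' hne
      rw [show N - 1 = ((T : Set X) ∩ (T' : Set X)).ncard * (k - 1) by omega, Nat.mul_div_cancel _ (by omega)]
  let inc : X → Finset (MulAction.orbit G T₀) := fun q => Finset.univ.filter fun T => q ∈ (T : Set X)
  have hmem : ∀ (g : G) (q : X) (T : MulAction.orbit G T₀), g • q ∈ ((g • T : MulAction.orbit G T₀) : Set X) ↔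
      q ∈ (T : Set X) := fun g q T => Set.smul_mem_smul_set_iff
  have hincg : ∀ (g : G) (q : X), inc (g • q) = (inc q).image (fun T => g • T) := by
    intro g q
    ext T
    simp only [inc, Finset.mem_filter, Finset.mem_univ, true_and, Finset.mem_image]
    constructor
    · intro h
      exact ⟨g⁻¹ • T, (hmem g q _).1 (by rwa [smul_inv_smul]), smul_inv_smul g T⟩
    · rintro ⟨T', h, rfl⟩
      exact (hmem g q T').2 h
  have hinj : ∀ g : G, Function.Injective (fun T : MulAction.orbit G T₀ => g • T) := fun g => MulAction.injective g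
  set r := (inc x).card with hr
  set l := (inc x ∩ inc y).card with hl
  have hle2 : Fintype.card X ≤ Fintype.card (MulAction.orbit G T₀) := by
    refine fisher inc r l ?_ (fun q => ?_) (fun q q' hne => ?_)
    · rcases (Finset.card_le_card (Finset.inter_subset_left (s₁ := inc x) (s₂ := inc y))).lt_or_eq with h | h
      · exact h
      · exfalso
        have hsub : inc x ⊆ inc y := Finset.inter_eq_left.1 (Finset.eq_of_subset_of_card_le
          Finset.inter_subset_left h.ge)
        have hall : ∀ q q' : X, q ≠ q' → inc q ⊆ inc q' := by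
          intro q q' hne
          obtain ⟨g, rfl, rfl⟩ := S.twoTrans x y q q' hxy hne
          rw [hincg, hincg]
          exact Finset.image_subset_image hsub
        refine hhyp.ne_univ (Set.eq_univ_iff_forall.2 fun q => ?_)
        by_cases hq : q = x
        · exact hq ▸ hx₀
        · have := hall x q (Ne.symm hq) (show (⟨T₀, MulAction.mem_orbit_self T₀⟩ : MulAction.orbit G T₀) ∈ inc x by
            simpa [inc] using hx₀)
          exact (Finset.mem_filter.1 this).2
    · obtain ⟨g, rfl⟩ := S.transitive x q ⟨y, hxy.symm⟩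
      rw [hincg, Finset.card_image_of_injective _ (hinj g)]
    · obtain ⟨g, rfl, rfl⟩ := S.twoTrans x y q q' hxy hne
      rw [hincg, hincg, ← Finset.image_inter _ _ (hinj g), Finset.card_image_of_injective _ (hinj g)]
  have hcard : (MulAction.stabilizer G T₀).index = Nat.card X := by
    rw [MulAction.index_stabilizer, ← Nat.card_coe_set_eq, Nat.card_eq_fintype_card, Nat.card_eq_fintype_card]
    omega
  have hinv : ∀ h : MulAction.stabilizer G T₀, ∀ q ∈ T₀, h • q ∈ T₀ := by
    intro h q hq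
    have := Set.smul_mem_smul_set (a := (h : G)) hq
    rwa [MulAction.mem_stabilizer_iff.1 h.2] at this
  obtain ⟨o, ho⟩ := (Set.ne_univ_iff_exists_notMem _).1 hhyp.ne_univ
  refine ⟨MulAction.stabilizer G T₀, hcard, fun htr => ?_, fun q => ?_, x, ⟨a, ?_⟩, ?_, ?_⟩
  · obtain ⟨h, hh⟩ := htr.exists_smul_eq x o
    exact ho (hh ▸ hinv h x hx₀)
  · by_contra hall
    simp only [not_exists, not_not] at hall
    have hle : MulAction.stabilizer G T₀ ≤ MulAction.stabilizer G q := fun h hh => hall ⟨h, hh⟩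
    haveI : MulAction.IsPretransitive G X := ⟨fun u v => S.transitive u v (by
      by_cases h : u = x
      · exact ⟨y, fun e => hxy (h ▸ e.symm)⟩
      · exact ⟨x, Ne.symm h⟩)⟩
    have heq : MulAction.stabilizer G q = MulAction.stabilizer G T₀ := by
      refine le_antisymm (Subgroup.relIndex_eq_one.1 ?_) hle
      have h1 := Subgroup.relIndex_mul_index hle
      rw [hcard, MulAction.index_stabilizer_of_transitive] at h1
      haveI : Nonempty X := ⟨q⟩
      exact mul_right_cancel₀ Nat.card_pos.ne' (h1.trans (one_mul _).symm)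
    -- the stabiliser of `q` is transitive on the other points and leaves the hyperplane invariant
    obtain ⟨t, ht, htq⟩ : ∃ t ∈ T₀, t ≠ q := by
      by_cases hqx : q = x
      · exact ⟨y, hy₀, fun e => hxy (e.trans hqx).symm⟩
      · exact ⟨x, hx₀, Ne.symm hqx⟩
    have hout : ∀ v, v ≠ q → v ∈ T₀ := by
      intro v hv
      obtain ⟨g, hg, hgt⟩ := S.twoTrans q t q v htq.symm hv.symm
      exact hgt ▸ hinv ⟨g, heq ▸ hg⟩ t ht
    have hqT : q ∉ T₀ := fun hq => hhyp.ne_univ (Set.eq_univ_iff_forall.2 fun v => by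
      by_cases h : v = q
      · exact h ▸ hq
      · exact hout v h)
    have hcount := S.card_subspace hk hhyp (U := Set.univ) (fun _ _ _ _ _ => Set.subset_univ _) (Set.mem_univ q) hqT
    have hT : T₀ = {q}ᶜ := Set.ext fun v => ⟨fun h e => hqT (e ▸ h), hout v⟩
    have hN' : T₀.ncard + 1 = (Set.univ : Set X).ncard := by
      rw [hT, Set.ncard_univ, ← Set.ncard_singleton q, add_comm, Set.ncard_add_ncard_compl]
    rw [Set.univ_inter, ← hN', ← hN] at hcount
    have : N * (k - 1) ≥ N * 2 := Nat.mul_le_mul_left _ (by omega)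
    omega
  · refine MulAction.mem_stabilizer_iff.2 (Set.ext fun q => ?_)
    rw [Set.mem_smul_set_iff_inv_smul_mem]
    show a • a⁻¹ • q = a⁻¹ • q ↔ a • q = q
    rw [smul_inv_smul, eq_inv_smul_iff]
  · exact fun e => ha1 (congrArg Subtype.val e)
  · rintro b ⟨h, rfl⟩
    exact hinv h x hx₀

end Setup

end CfsgLib.ONanAbelian
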