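import Cfsg.Agent.Lib.Perm.ONanAbelian.Hyperplane
import Cfsg.Agent.Lib.Perm.ItoDesign.Main

/-!
# O'Nan's theorem on abelian normal subgroups of point stabilisers (owner: helper27)
-/

set_option autoImplicit false

namespace CfsgLib.ONanAbelian

open MulAction

/-- A point stabiliser in a two-transitive group with an abelian normal subgroup that is not semiregular on the
other points: the group normalises a projective special linear group of dimension at least three. -/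
theorem exists_psl {G X : Type*} [Group G] [Finite G] [MulAction G X] [FaithfulSMul G X] [Finite X]
    (h2 : MulAction.IsMultiplyPretransitive G X 2) (x : X) (N : Subgroup G) (hNle : N ≤ MulAction.stabilizer G x)
    (hN : ∀ g ∈ MulAction.stabilizer G x, ∀ n ∈ N, g * n * g⁻¹ ∈ N) (hab : IsMulCommutative N)
    (hnsr : ∃ n ∈ N, n ≠ 1 ∧ ∃ y : X, y ≠ x ∧ n • y = y) :
    ∃ (m : ℕ) (F : Type) (_ : Field F) (_ : Fintype F), 2 ≤ m ∧
      ∃ M : Subgroup G, M.Normal ∧ Nonempty (M ≃* Matrix.ProjectiveSpecialLinearGroup (Fin (m + 1)) F) ∧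
        Subgroup.centralizer (M : Set G) = ⊥ := by
  classical
  obtain ⟨n, hn, hn1, y₀, hy₀, hny⟩ := hnsr
  obtain ⟨p, hp, hpdvd⟩ := Nat.exists_prime_and_dvd (fun h => hn1 (orderOf_eq_one_iff.1 h))
  haveI : Fact p.Prime := ⟨hp⟩
  have hcomm : ∀ a ∈ N, ∀ b ∈ N, a * b = b * a := fun a ha b hb =>
    congrArg Subtype.val (hab.is_comm.comm (⟨a, ha⟩ : N) ⟨b, hb⟩)
  set n₀ := n ^ (orderOf n / p) with hn₀
  have hn₀mem : n₀ ∈ N := pow_mem hn _
  have hn₀p : orderOf n₀ = p := orderOf_pow_orderOf_div (orderOf_pos n).ne' hpdvd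
  have hn₀1 : n₀ ≠ 1 := fun h => hp.one_lt.ne' (by rw [← hn₀p, h, orderOf_one])
  have hn₀y : n₀ • y₀ = y₀ := pow_mem (show n ∈ MulAction.stabilizer G y₀ from hny) _
  let A₀ : Subgroup G :=
    { carrier := {a | a ∈ N ∧ a ^ p = 1}
      one_mem' := ⟨one_mem _, one_pow _⟩
      mul_mem' := fun {a b} ha hb => ⟨mul_mem ha.1 hb.1, by
        rw [Commute.mul_pow (hcomm a ha.1 b hb.1), ha.2, hb.2, one_mul]⟩
      inv_mem' := fun {a} ha => ⟨inv_mem ha.1, by rw [inv_pow, ha.2, inv_one]⟩ }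
  have hA₀conj : ∀ g : G, g • x = x → ∀ a ∈ A₀, g * a * g⁻¹ ∈ A₀ := fun g hg a ha =>
    ⟨hN g hg a ha.1, by rw [conj_pow, ha.2, mul_one, mul_inv_cancel]⟩
  have htrans : ∀ a b c d : X, a ≠ b → c ≠ d → ∃ g : G, g • a = c ∧ g • b = d := fun a b c d hab hcd =>
    (MulAction.is_two_pretransitive_iff.1 h2 : ∀ {a b c d : X}, a ≠ b → c ≠ d → ∃ g : G, g • a = c ∧ g • b = d)
      hab hcd
  have hex : ∀ z : X, ∃ g : G, g • x = z := by
    intro z
    by_cases h : z = x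
    · exact ⟨1, by simp [h]⟩
    · obtain ⟨g, hg, -⟩ := htrans x z z x (Ne.symm h) h
      exact ⟨g, hg⟩
  choose rep hrep using hex
  let A : X → Subgroup G := fun z => A₀.map (MulAut.conj (rep z)).toMonoidHom
  have hA : ∀ (z : X) (g : G), g • x = z → ∀ a : G, a ∈ A z ↔ g⁻¹ * a * g ∈ A₀ := by
    intro z g hg a
    have hfix : (g⁻¹ * rep z) • x = x := by rw [mul_smul, hrep, ← hg, inv_smul_smul]
    have hfix' : ((rep z)⁻¹ * g) • x = x := by rw [mul_smul, hg, inv_smul_eq_iff, hrep]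
    constructor
    · rintro ⟨b, hb, rfl⟩
      have := hA₀conj _ hfix b hb
      rwa [MulEquiv.coe_toMonoidHom, MulAut.conj_apply,
        show g⁻¹ * (rep z * b * (rep z)⁻¹) * g = g⁻¹ * rep z * b * (g⁻¹ * rep z)⁻¹ by group]
    · intro ha
      refine ⟨_, hA₀conj _ hfix' _ ha, ?_⟩
      rw [MulEquiv.coe_toMonoidHom, MulAut.conj_apply]
      group
  have hA₀x : ∀ a ∈ A₀, a • x = x := fun a ha => hNle ha.1
  have hmove₀ : ∀ y, y ≠ x → ∃ a ∈ A₀, a • y ≠ y := by
    intro y hy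
    by_contra h
    simp only [not_exists, not_and, not_not] at h
    refine hn₀1 (eq_of_smul_eq_smul (α := X) fun z => ?_)
    rw [one_smul]
    by_cases hz : z = x
    · exact hz ▸ hA₀x n₀ ⟨hn₀mem, hn₀p ▸ pow_orderOf_eq_one n₀⟩
    · obtain ⟨g, hgx, hgy⟩ := htrans x z x y (Ne.symm hz) (Ne.symm hy)
      have h1 := h _ (hA₀conj g hgx n₀ ⟨hn₀mem, hn₀p ▸ pow_orderOf_eq_one n₀⟩)
      rw [← hgy, mul_smul, mul_smul, inv_smul_smul] at h1
      exact smul_left_cancel g h1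
  let S : Setup G X p :=
    { A := A
      conj_mem := fun g z a ha => by
        rw [hA (g • z) (g * rep z) (by rw [mul_smul, hrep])]
        rw [show (g * rep z)⁻¹ * (g * a * g⁻¹) * (g * rep z) = (rep z)⁻¹ * a * rep z by group]
        exact (hA z _ (hrep z) a).1 ha
      fixes := fun z a ha => by
        have h := hA₀x _ ((hA z _ (hrep z) a).1 ha)
        rwa [mul_smul, mul_smul, hrep, inv_smul_eq_iff, hrep] at h
      comm := by
        rintro z _ ⟨a, ha, rfl⟩ _ ⟨b, hb, rfl⟩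
        rw [← map_mul, ← map_mul, hcomm a ha.1 b hb.1]
      pow_p := by
        rintro z _ ⟨a, ha, rfl⟩
        rw [← map_pow, ha.2, map_one]
      moves := fun z y hy => by
        obtain ⟨a, ha, hay⟩ := hmove₀ ((rep z)⁻¹ • y) (fun e => hy (by rw [← hrep z]; exact (inv_smul_eq_iff.1 e)))
        refine ⟨rep z * a * (rep z)⁻¹, ⟨a, ha, by rw [MulEquiv.coe_toMonoidHom, MulAut.conj_apply]⟩, fun e => hay ?_⟩
        rw [mul_smul, mul_smul] at e
        exact eq_inv_smul_iff.2 e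
      nonsemireg := fun z y hy => by
        obtain ⟨g, hgx, hgy⟩ := htrans x y₀ z y hy₀.symm hy.symm
        refine ⟨g * n₀ * g⁻¹, (hA z g hgx _).2 ?_, fun e => hn₀1 (conj_eq_one_iff.1 e), ?_⟩
        · rw [show g⁻¹ * (g * n₀ * g⁻¹) * g = n₀ by group]
          exact ⟨hn₀mem, hn₀p ▸ pow_orderOf_eq_one n₀⟩
        · rw [← hgy, mul_smul, mul_smul, inv_smul_smul, hn₀y]
      twoTrans := htrans }
  obtain ⟨H, hidx, hnt, hfix, q, hunf⟩ := S.exists_hyperplane_stabilizer ⟨x, y₀, hy₀.symm⟩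
  obtain ⟨m, F, hF, hFt, hm, -, M, hM, e, hC⟩ :=
    CfsgLib.ItoDesign.ito_unfaithful h2 H hidx hnt hfix ⟨q, hunf⟩
  exact ⟨m, F, hF, hFt, hm, M, hM, e, hC⟩

end CfsgLib.ONanAbelian
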