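import Cfsg.Agent.Lib.Perm.ONanAbelian.Basic
import Mathlib.Algebra.Order.BigOperators.Group.Finset
import Mathlib.Tactic.Linarith
import Mathlib.Tactic.Ring

/-!
# Every element of one of the subgroups has a fixed point on every line (owner: helper27)

For three non-collinear points the two point stabilisers inside `A x` generate it; counting then shows that a line
not through `x` meets every fixed point set of an element of `A x`.
-/

set_option autoImplicit false

namespace CfsgLib.ONanAbelian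

open MulAction

namespace Setup

variable {G X : Type*} [Group G] [MulAction G X] {p : ℕ} (S : Setup G X p) [Finite G] [FaithfulSMul G X]
  [Fact p.Prime]

/-- The commutator of an element fixing the line `L x y` pointwise with an element of `A x` fixes `y`. -/
theorem commutator_mem_St {x y : X} {g a : G} (hg : ∀ q ∈ S.L x y, g • q = q) (ha : a ∈ S.A x) :
    g * a * g⁻¹ * a⁻¹ ∈ S.St x y := by
  refine ⟨(S.A x).mul_mem (S.conj_mem_of_fix (hg x (S.left_mem_L x y)) ha) ((S.A x).inv_mem ha), ?_⟩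
  show (g * a * g⁻¹ * a⁻¹) • y = y
  have h1 : g • (a⁻¹ • y) = a⁻¹ • y := hg _ (S.smul_mem_L (inv_mem ha) (S.right_mem_L x y))
  rw [mul_smul, mul_smul, mul_smul, inv_smul_eq_iff.2 h1.symm, smul_inv_smul, hg y (S.right_mem_L x y)]

theorem delta_mem {x y : X} (hxy : x ≠ y) {u a : G} (hu : u ∈ S.St y x) (ha : a ∈ S.A x) :
    u * a * u⁻¹ * a⁻¹ ∈ S.St x y :=
  S.commutator_mem_St (fun _ hq => (S.L_subset_symm hxy hq) u hu) ha

theorem delta_injective {x y : X} (hxy : x ≠ y) {a u v : G} (ha : a ∈ S.A x) (hay : a ∉ S.St x y)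
    (hu : u ∈ S.St y x) (hv : v ∈ S.St y x) (h : u * a * u⁻¹ * a⁻¹ = v * a * v⁻¹ * a⁻¹) : u = v := by
  by_contra hne
  have h' : u * a * u⁻¹ = v * a * v⁻¹ := mul_right_cancel h
  have hc : a * (v⁻¹ * u) = (v⁻¹ * u) * a := by
    calc a * (v⁻¹ * u) = v⁻¹ * (v * a * v⁻¹) * u := by group
      _ = v⁻¹ * (u * a * u⁻¹) * u := by rw [h']
      _ = (v⁻¹ * u) * a := by group
  exact hay ⟨ha, S.fix_of_commute (mul_mem (inv_mem hv.1) hu.1) (fun e => hne (eq_of_inv_mul_eq_one e).symm) hc⟩

theorem not_le_St {x y z : X} (hxy : x ≠ y) (hxz : x ≠ z) (hz : z ∉ S.L x y) : ¬ S.St x z ≤ S.St x y := by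
  intro h
  have : S.St x z = S.St x y := SetLike.coe_injective (Set.eq_of_subset_of_ncard_le h (by
    rw [← Nat.card_coe_set_eq, ← Nat.card_coe_set_eq]; exact (S.card_St hxy hxz).le) (Set.toFinite _))
  exact hz fun a ha => (this ▸ ha : a ∈ S.St x z).2

/-- An element of `E` sends `A x` into `D` by commutators. -/
theorem delta_mem_inf {x y z : X} (hxy : x ≠ y) (hxz : x ≠ z) {u a : G} (hu : u ∈ S.St y x ⊓ S.St y z)
    (ha : a ∈ S.A x) : u * a * u⁻¹ * a⁻¹ ∈ S.St x y ⊓ S.St x z :=
  ⟨S.delta_mem hxy hu.1 ha, S.commutator_mem_St (S.fix_L hu.1.1 hxz hu.1.2 hu.2.2) ha⟩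

theorem card_inf_le {x y z : X} (hxy : x ≠ y) (hxz : x ≠ z) (hz : z ∉ S.L x y) :
    Nat.card (S.St y x ⊓ S.St y z : Subgroup G) ≤ Nat.card (S.St x y ⊓ S.St x z : Subgroup G) := by
  obtain ⟨a, ha, hay⟩ := SetLike.not_le_iff_exists.1 (S.not_le_St hxy hxz hz)
  exact Nat.card_le_card_of_injective
    (fun u : (S.St y x ⊓ S.St y z : Subgroup G) => (⟨_, S.delta_mem_inf hxy hxz u.2 ha.1⟩ :
      (S.St x y ⊓ S.St x z : Subgroup G)))
    fun u v h => Subtype.ext (S.delta_injective hxy ha.1 hay u.2.1 v.2.1 (congrArg Subtype.val h))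

theorem card_inf_eq {x y z : X} (hxy : x ≠ y) (hxz : x ≠ z) (hz : z ∉ S.L x y) :
    Nat.card (S.St y x ⊓ S.St y z : Subgroup G) = Nat.card (S.St x y ⊓ S.St x z : Subgroup G) := by
  have hz' : z ∉ S.L y x := S.L_comm hxy ▸ hz
  have hyz : y ≠ z := fun e => hz (e ▸ S.right_mem_L x y)
  exact le_antisymm (S.card_inf_le hxy hxz hz) (S.card_inf_le hxy.symm hyz hz')

theorem mem_of_delta_mem {x y z : X} (hxy : x ≠ y) (hxz : x ≠ z) (hz : z ∉ S.L x y) {u a : G} (ha : a ∈ S.A x)
    (hay : a ∉ S.St x y) (hu : u ∈ S.St y x) (h : u * a * u⁻¹ * a⁻¹ ∈ S.St x y ⊓ S.St x z) :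
    u ∈ S.St y x ⊓ S.St y z := by
  let f : (S.St y x ⊓ S.St y z : Subgroup G) → (S.St x y ⊓ S.St x z : Subgroup G) :=
    fun u => ⟨_, S.delta_mem_inf hxy hxz u.2 ha⟩
  have hinj : Function.Injective f := fun u v h =>
    Subtype.ext (S.delta_injective hxy ha hay u.2.1 v.2.1 (congrArg Subtype.val h))
  have hbij := hinj.bijective_of_nat_card_le (S.card_inf_eq hxy hxz hz).ge
  obtain ⟨v, hv⟩ := hbij.2 ⟨_, h⟩
  exact (S.delta_injective hxy ha hay v.2.1 hu (congrArg Subtype.val hv)) ▸ v.2

/-- The number of points in an orbit of `A x` on a line through `x`. -/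
noncomputable def orb (x y : X) : ℕ := (S.St x y).relIndex (S.A x)

theorem card_St_mul_orb (x y : X) : Nat.card (S.St x y) * S.orb x y = Nat.card (S.A x) := by
  rw [orb, ← Subgroup.relIndex_bot_left, ← Subgroup.relIndex_bot_left]
  exact Subgroup.relIndex_mul_relIndex _ _ _ bot_le inf_le_left

theorem orb_eq_ncard (x y : X) : S.orb x y = (MulAction.orbit (S.A x) y).ncard := by
  have : stabilizer (S.A x) y = (S.St x y).subgroupOf (S.A x) := by
    ext a
    exact ⟨fun h => ⟨a.2, h⟩, fun h => h.2⟩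
  rw [← MulAction.index_stabilizer, this]
  rfl

theorem two_le_orb {x y : X} (hxy : x ≠ y) : 2 ≤ S.orb x y := by
  rw [S.orb_eq_ncard]
  obtain ⟨a, ha, hay⟩ := S.moves x y hxy.symm
  calc 2 = ({a • y, y} : Set X).ncard := (Set.ncard_pair hay).symm
    _ ≤ _ := Set.ncard_le_ncard (by
      rintro q (rfl | rfl)
      · exact ⟨⟨a, ha⟩, rfl⟩
      · exact MulAction.mem_orbit_self _) (Set.finite_range _)

theorem orb_add_one_le {x y : X} (hxy : x ≠ y) [Finite X] : S.orb x y + 1 ≤ (S.L x y).ncard := by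
  rw [S.orb_eq_ncard]
  have hx : x ∉ MulAction.orbit (S.A x) y := by
    rintro ⟨⟨a, ha⟩, h⟩
    exact hxy (smul_left_cancel a ((S.fixes x a ha).trans (h : a • y = x).symm))
  rw [← Set.ncard_insert_of_notMem hx (Set.toFinite _)]
  refine Set.ncard_le_ncard ?_ (Set.toFinite _)
  rintro q (rfl | ⟨⟨a, ha⟩, rfl⟩)
  · exact S.left_mem_L _ _
  · exact S.smul_mem_L ha (S.right_mem_L x y)

/-- For non-collinear points the intersection of the stabilisers has index equal to the orbit length. -/
theorem card_inf_mul_orb {x y z : X} (hxy : x ≠ y) (hxz : x ≠ z) (hz : z ∉ S.L x y) :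
    Nat.card (S.St x y ⊓ S.St x z : Subgroup G) * S.orb x y = Nat.card (S.St x y) := by
  set W := S.St x y with hW
  set W' := S.St x z with hW'
  set D := W ⊓ W' with hD
  obtain ⟨u, hu, hu'⟩ : ∃ u ∈ S.St y x, u ∉ S.St y x ⊓ S.St y z := by
    refine SetLike.not_le_iff_exists.1 fun h => ?_
    have hyz : y ≠ z := fun e => hz (e ▸ S.right_mem_L x y)
    have hx : x ∉ S.L y z := by
      intro hx
      apply hz
      rw [S.L_comm hxy, S.L_eq hyz (S.left_mem_L y z) hx hxy.symm]
      exact S.right_mem_L y z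
    exact S.not_le_St hyz hxy.symm hx (h.trans inf_le_right)
  let f : S.A x →* W := MonoidHom.mk' (fun a => ⟨_, S.delta_mem hxy hu a.2⟩) (by
    rintro ⟨a, ha⟩ ⟨b, hb⟩
    refine Subtype.ext ?_
    show u * (a * b) * u⁻¹ * (a * b)⁻¹ = (u * a * u⁻¹ * a⁻¹) * (u * b * u⁻¹ * b⁻¹)
    have hua : u * a * u⁻¹ ∈ S.A x := S.conj_mem_of_fix hu.2 ha
    have hbb : u * b * u⁻¹ * b⁻¹ ∈ S.A x := (S.delta_mem hxy hu hb).1
    calc u * (a * b) * u⁻¹ * (a * b)⁻¹ = (u * a * u⁻¹) * ((u * b * u⁻¹ * b⁻¹) * a⁻¹) := by group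
      _ = (u * a * u⁻¹) * (a⁻¹ * (u * b * u⁻¹ * b⁻¹)) := by rw [S.comm x _ hbb _ (inv_mem ha)]
      _ = _ := by group)
  have hcomap : (D.subgroupOf W).comap f = W.subgroupOf (S.A x) := by
    ext ⟨a, ha⟩
    simp only [Subgroup.mem_comap, Subgroup.mem_subgroupOf]
    constructor
    · intro h
      by_contra hay
      exact hu' (S.mem_of_delta_mem hxy hxz hz ha hay hu h)
    · intro h
      show u * a * u⁻¹ * a⁻¹ ∈ D
      rw [← S.commute_of_fix hxy ha h.2 hu.1 hu.2, mul_inv_cancel_right, mul_inv_cancel]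
      exact one_mem _
  have h1 : W.relIndex (S.A x) ≤ D.relIndex W := by
    show (W.subgroupOf (S.A x)).index ≤ _
    rw [← hcomap, Subgroup.index_comap]
    calc (D.subgroupOf W).relIndex f.range ≤ (D.subgroupOf W).relIndex ⊤ :=
          Subgroup.relIndex_le_of_le_right le_top (by rw [Subgroup.relIndex_top_right]; exact Subgroup.index_ne_zero_of_finite)
      _ = D.relIndex W := by rw [Subgroup.relIndex_top_right]; rfl
  have h2 : D.relIndex W' ≤ W.relIndex (S.A x) := by
    rw [hD, Subgroup.inf_relIndex_right]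
    exact Subgroup.relIndex_le_of_le_right inf_le_left Subgroup.index_ne_zero_of_finite
  have e1 : Nat.card D * D.relIndex W = Nat.card W := by
    rw [← Subgroup.relIndex_bot_left, ← Subgroup.relIndex_bot_left]
    exact Subgroup.relIndex_mul_relIndex _ _ _ bot_le inf_le_left
  have e2 : Nat.card D * D.relIndex W' = Nat.card W' := by
    rw [← Subgroup.relIndex_bot_left, ← Subgroup.relIndex_bot_left]
    exact Subgroup.relIndex_mul_relIndex _ _ _ bot_le inf_le_right
  rw [S.card_St hxz hxy, ← e1] at e2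
  have e3 : D.relIndex W' = D.relIndex W := mul_left_cancel₀ Nat.card_pos.ne' e2
  rw [show S.orb x y = D.relIndex W from le_antisymm h1 (e3 ▸ h2), e1]

/-- Every element of `A x` fixes a point of every line not through `x`. -/
theorem exists_fix_mem_line [Finite X] {x y z : X} (hyz : y ≠ z) (hx : x ∉ S.L y z) {a : G} (ha : a ∈ S.A x) :
    ∃ q ∈ S.L y z, a • q = q := by
  classical
  have hxq : ∀ q ∈ S.L y z, x ≠ q := fun q hq e => hx (e ▸ hq)
  have hnc : ∀ q ∈ S.L y z, ∀ q' ∈ S.L y z, q ≠ q' → q' ∉ S.L x q := by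
    intro q hq q' hq' hne h
    apply hx
    rw [← S.L_eq hyz hq hq' hne, S.L_eq (hxq q hq) (S.right_mem_L x q) h hne]
    exact S.left_mem_L x q
  have hxy := hxq y (S.left_mem_L y z)
  have hxz := hxq z (S.right_mem_L y z)
  set D := S.St x y ⊓ S.St x z with hD
  set s := S.orb x y with hs
  set d := Nat.card D with hd
  have hw : d * s = Nat.card (S.St x y) :=
    S.card_inf_mul_orb hxy hxz (hnc y (S.left_mem_L y z) z (S.right_mem_L y z) hyz)
  have hA : Nat.card (S.St x y) * s = Nat.card (S.A x) := S.card_St_mul_orb x y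
  have hDle : ∀ q ∈ S.L y z, D ≤ S.St x q := fun q hq e he =>
    ⟨he.1.1, S.fix_L he.1.1 hyz he.1.2 he.2.2 q hq⟩
  have horb : ∀ q ∈ S.L y z, S.orb x q = s := by
    intro q hq
    have h1 := S.card_St_mul_orb x q
    rw [S.card_St (hxq q hq) hxy, ← hA] at h1
    exact mul_left_cancel₀ Nat.card_pos.ne' h1
  have hinter : ∀ q ∈ S.L y z, ∀ q' ∈ S.L y z, q ≠ q' → S.St x q ⊓ S.St x q' = D := by
    intro q hq q' hq' hne
    have h1 := S.card_inf_mul_orb (hxq q hq) (hxq q' hq') (hnc q hq q' hq' hne)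
    rw [horb q hq, S.card_St (hxq q hq) hxy, ← hw] at h1
    have h2 : Nat.card (S.St x q ⊓ S.St x q' : Subgroup G) = d :=
      mul_right_cancel₀ (by have := S.two_le_orb hxy; omega) h1
    refine (SetLike.coe_injective (Set.eq_of_subset_of_ncard_le (le_inf (hDle q hq) (hDle q' hq')) ?_
      (Set.toFinite _))).symm
    rw [← Nat.card_coe_set_eq, ← Nat.card_coe_set_eq]
    exact h2.le
  haveI := Fintype.ofFinite G
  haveI := Fintype.ofFinite X
  let F : X → Finset G := fun q => (Finset.univ.filter fun g => g ∈ S.St x q) \ (Finset.univ.filter fun g => g ∈ D)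
  have hcardf : ∀ K : Subgroup G, (Finset.univ.filter fun g => g ∈ K).card = Nat.card K := by
    intro K
    rw [Nat.card_eq_fintype_card, Fintype.card_subtype]
  have hFcard : ∀ q ∈ (S.L y z).toFinset, (F q).card = d * s - d := by
    intro q hq
    rw [Set.mem_toFinset] at hq
    rw [Finset.card_sdiff_of_subset (by
      intro g hg
      simp only [Finset.mem_filter, Finset.mem_univ, true_and] at hg ⊢
      exact hDle q hq hg), hcardf, hcardf, S.card_St (hxq q hq) hxy, hw]
  have hdisj : Set.PairwiseDisjoint ((S.L y z).toFinset : Set X) F := by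
    intro q hq q' hq' hne
    rw [Function.onFun, Finset.disjoint_left]
    intro g hg hg'
    simp only [F, Finset.mem_sdiff, Finset.mem_filter, Finset.mem_univ, true_and] at hg hg'
    simp only [Set.coe_toFinset] at hq hq'
    exact hg.2 (hinter q hq q' hq' hne ▸ (⟨hg.1, hg'.1⟩ : g ∈ S.St x q ⊓ S.St x q'))
  have hsub : (S.L y z).toFinset.biUnion F ⊆
      (Finset.univ.filter fun g => g ∈ S.A x) \ (Finset.univ.filter fun g => g ∈ D) := by
    intro g hg
    simp only [F, Finset.mem_biUnion, Finset.mem_sdiff, Finset.mem_filter, Finset.mem_univ, true_and] at hg ⊢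
    obtain ⟨q, -, h1, h2⟩ := hg
    exact ⟨h1.1, h2⟩
  have hk : s + 1 ≤ (S.L y z).toFinset.card := by
    rw [← Set.ncard_eq_toFinset_card']
    obtain ⟨g, hg1, hg2⟩ := S.twoTrans x y y z hxy hyz
    calc s + 1 ≤ (S.L x y).ncard := S.orb_add_one_le hxy
      _ = ((fun q => g • q) '' S.L x y).ncard := (Set.ncard_image_of_injective _ (MulAction.injective g)).symm
      _ = _ := by rw [S.L_image, hg1, hg2]
  have hU : ((Finset.univ.filter fun g => g ∈ S.A x) \ (Finset.univ.filter fun g => g ∈ D)).card =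
      d * s * s - d := by
    rw [Finset.card_sdiff_of_subset (by
      intro g hg
      simp only [Finset.mem_filter, Finset.mem_univ, true_and] at hg ⊢
      exact hg.1.1), hcardf, hcardf, ← hA, ← hw]
  by_cases haD : a ∈ D
  · exact ⟨y, S.left_mem_L y z, haD.1.2⟩
  · have heq : (S.L y z).toFinset.biUnion F =
        (Finset.univ.filter fun g => g ∈ S.A x) \ (Finset.univ.filter fun g => g ∈ D) := by
      refine Finset.eq_of_subset_of_card_le hsub ?_
      rw [hU, Finset.card_biUnion hdisj, Finset.sum_congr rfl hFcard, Finset.sum_const, smul_eq_mul]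
      calc d * s * s - d = (s + 1) * (d * s - d) := by
            have h2 : d * s * s - d + d = d * s * s :=
              Nat.sub_add_cancel (le_trans (Nat.le_mul_of_pos_right d (by have := S.two_le_orb hxy; omega))
                (Nat.le_mul_of_pos_right _ (by have := S.two_le_orb hxy; omega)))
            have h3 : d * s - d + d = d * s :=
              Nat.sub_add_cancel (Nat.le_mul_of_pos_right d (by have := S.two_le_orb hxy; omega))
            nlinarith
        _ ≤ _ := Nat.mul_le_mul_right _ hk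
    have : a ∈ (S.L y z).toFinset.biUnion F := by
      rw [heq]
      simp [ha, haD]
    simp only [F, Finset.mem_biUnion, Set.mem_toFinset, Finset.mem_sdiff, Finset.mem_filter, Finset.mem_univ,
      true_and] at this
    obtain ⟨q, hq, hqa, -⟩ := this
    exact ⟨q, hq, hqa.2⟩

end Setup

end CfsgLib.ONanAbelian
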